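import Mathlib

/-!
# Finitely presented modules over chain rings

If `R` is a commutative ring in which divisibility is total, then every finitely presented
module is a finite direct sum of cyclic modules `R ⧸ (f)`.
-/

set_option autoImplicit false
universe u

namespace Groth.Agent.Lib.Helper2.Chain

variable {R : Type u} [CommRing R]

/-- In a ring with total divisibility, every nonempty finite set has an element dividing all
the others. -/
theorem exists_dvd_all (h : ∀ a b : R, a ∣ b ∨ b ∣ a) (C : Finset R) (hC : C.Nonempty) :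
    ∃ d ∈ C, ∀ c ∈ C, d ∣ c := by
  classical
  induction hC using Finset.Nonempty.cons_induction with
  | singleton a => exact ⟨a, by simp, by simp⟩
  | cons a s ha hs ih =>
    obtain ⟨d, hd, hdiv⟩ := ih
    rcases h a d with had | hda
    · refine ⟨a, by simp, ?_⟩
      intro c hc
      rcases Finset.mem_cons.mp hc with rfl | hc
      · exact dvd_rfl
      · exact had.trans (hdiv c hc)
    · refine ⟨d, by simp [hd], ?_⟩
      intro c hc
      rcases Finset.mem_cons.mp hc with rfl | hc
      · exact hda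
      · exact hdiv c hc

/-- For a finitely generated submodule `K` of `R^(n+1)` over a ring with total divisibility,
some coordinate of some element of `K` divides all coordinates of all elements of `K`. -/
theorem exists_min_coord (h : ∀ a b : R, a ∣ b ∨ b ∣ a) {n : ℕ}
    (K : Submodule R (Fin (n+1) → R)) (hK : K.FG) :
    ∃ v ∈ K, ∃ i : Fin (n+1), ∀ u ∈ K, ∀ j, v i ∣ u j := by
  classical
  obtain ⟨S, hS⟩ := hK
  let C : Finset R := ((insert 0 S) ×ˢ (Finset.univ : Finset (Fin (n+1)))).image (fun p => p.1 p.2)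
  have hC : C.Nonempty := ⟨(0 : Fin (n+1) → R) 0, Finset.mem_image.mpr
    ⟨(0, 0), by simp, rfl⟩⟩
  obtain ⟨d, hd, hdiv⟩ := exists_dvd_all h C hC
  obtain ⟨⟨v, i⟩, hvi, rfl⟩ := Finset.mem_image.mp hd
  have hvK : v ∈ K := by
    simp only [Finset.mem_product, Finset.mem_insert, Finset.mem_univ, and_true] at hvi
    rcases hvi with rfl | hv
    · exact K.zero_mem
    · rw [← hS]; exact Submodule.subset_span hv
  refine ⟨v, hvK, i, ?_⟩
  intro u hu
  rw [← hS] at hu
  induction hu using Submodule.span_induction with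
  | mem x hx =>
    intro j
    apply hdiv
    exact Finset.mem_image.mpr ⟨(x, j), by simp [Finset.mem_coe.mp hx], rfl⟩
  | zero => intro j; exact dvd_zero _
  | add x y _ _ hx hy => intro j; exact dvd_add (hx j) (hy j)
  | smul a x _ hx => intro j; exact Dvd.dvd.mul_left (hx j) a

/-- Splitting off a cyclic summand. -/
theorem exists_split (M : Type u) [AddCommGroup M] [Module R M] {n : ℕ}
    (g : (Fin (n+1) → R) →ₗ[R] M) (hg : Function.Surjective g)
    (v : Fin (n+1) → R) (hv : v ∈ LinearMap.ker g) (i : Fin (n+1))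
    (hdiv : ∀ u ∈ LinearMap.ker g, ∀ j, v i ∣ u j) :
    ∃ (y : M) (g' : (Fin n → R) →ₗ[R] (M ⧸ Submodule.span R {y})),
      Function.Surjective g' ∧
      Nonempty (M ≃ₗ[R] ((R ⧸ Ideal.span {v i}) × (M ⧸ Submodule.span R {y}))) := by
  classical
  set d := v i with hd
  have hc : ∀ j, ∃ c, v j = d * c := fun j => hdiv v hv j
  choose c hc using hc
  let w : Fin (n+1) → R := Function.update c i 1
  have hwi : w i = 1 := by simp [w]
  have hdw : d • w = v := by
    ext j
    by_cases hj : j = i
    · subst hj; simp [w, hd]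
    · simp [w, Function.update_of_ne hj, hc j]
  let y : M := g w
  have hdy : d • y = 0 := by
    show d • g w = 0
    rw [← map_smul, hdw]; exact hv
  -- ψ : R/(d) → M
  let ψ : (R ⧸ Ideal.span {d}) →ₗ[R] M :=
    Submodule.liftQ (Ideal.span {d}) (LinearMap.toSpanSingleton R M y) (by
      rw [Ideal.span_le] 
      intro r hr
      rw [Set.mem_singleton_iff.mp hr]
      simpa using hdy)
  have hψ : ∀ r : R, ψ (Submodule.Quotient.mk r) = r • y := fun r => rfl
  -- φ : M → R/(d)
  have hker : LinearMap.ker g ≤ LinearMap.ker ((Submodule.mkQ (Ideal.span {d})) ∘ₗ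
      (LinearMap.proj i : (Fin (n+1) → R) →ₗ[R] R)) := by
    intro u hu
    rw [LinearMap.mem_ker, LinearMap.comp_apply, Submodule.mkQ_apply,
      Submodule.Quotient.mk_eq_zero]
    exact Ideal.mem_span_singleton.mpr (hdiv u hu i)
  let φ : M →ₗ[R] (R ⧸ Ideal.span {d}) :=
    (Submodule.liftQ (LinearMap.ker g) _ hker) ∘ₗ
      (g.quotKerEquivOfSurjective hg).symm.toLinearMap
  have hφ : ∀ u, φ (g u) = Submodule.Quotient.mk (u i) := fun u => by
    simp [φ, LinearMap.quotKerEquivOfSurjective_symm_apply]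
  have hφy : φ y = Submodule.Quotient.mk 1 := by
    show φ (g w) = _
    rw [hφ, hwi]
  have hφψ : ∀ t, φ (ψ t) = t := by
    intro t
    obtain ⟨r, rfl⟩ := Submodule.Quotient.mk_surjective _ t
    rw [hψ, map_smul, hφy, ← Submodule.Quotient.mk_smul]
    simp
  have hψmem : ∀ t, ψ t ∈ Submodule.span R {y} := by
    intro t
    obtain ⟨r, rfl⟩ := Submodule.Quotient.mk_surjective _ t
    rw [hψ]
    exact Submodule.smul_mem _ _ (Submodule.mem_span_singleton_self y)
  refine ⟨y, ?_, ?_, ?_⟩
  · exact (Submodule.mkQ (Submodule.span R {y})) ∘ₗ g ∘ₗ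
      (Function.ExtendByZero.linearMap R (Fin.succAbove i))
  · intro m'
    obtain ⟨m, rfl⟩ := Submodule.mkQ_surjective _ m'
    obtain ⟨u, rfl⟩ := hg m
    let u' : Fin (n+1) → R := u - u i • w
    have hu'i : u' i = 0 := by simp [u', hwi]
    have hu' : Function.extend (Fin.succAbove i) (u' ∘ Fin.succAbove i) 0 = u' := by
      ext j
      by_cases hj : j = i
      · subst hj
        rw [hu'i, Function.extend_apply']
        · rfl
        · rintro ⟨k, hk⟩
          exact Fin.succAbove_ne _ _ hk
      · obtain ⟨k, rfl⟩ := Fin.exists_succAbove_eq hj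
        rw [(Fin.succAbove_right_injective).extend_apply]
        rfl
    have hι : Function.ExtendByZero.linearMap R (Fin.succAbove i) (u' ∘ Fin.succAbove i) = u' := by
      ext j
      rw [Function.ExtendByZero.linearMap_apply]
      exact congrFun hu' j
    refine ⟨u' ∘ Fin.succAbove i, ?_⟩
    rw [LinearMap.comp_apply, LinearMap.comp_apply, hι]
    simp only [u', map_sub, map_smul]
    rw [sub_eq_self]
    have : (Submodule.span R {y}).mkQ (g w) = 0 := by
      rw [Submodule.mkQ_apply, Submodule.Quotient.mk_eq_zero]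
      exact Submodule.mem_span_singleton_self y
    rw [this, smul_zero]
  · refine ⟨LinearEquiv.ofBijective (φ.prod (Submodule.mkQ (Submodule.span R {y}))) ⟨?_, ?_⟩⟩
    · rw [← LinearMap.ker_eq_bot, LinearMap.ker_eq_bot']
      intro m hm
      have h1 : φ m = 0 := congrArg Prod.fst hm
      have h2 : (Submodule.span R {y}).mkQ m = 0 := congrArg Prod.snd hm
      rw [Submodule.mkQ_apply, Submodule.Quotient.mk_eq_zero] at h2
      obtain ⟨r, rfl⟩ := Submodule.mem_span_singleton.mp h2
      rw [map_smul, hφy, ← Submodule.Quotient.mk_smul, Submodule.Quotient.mk_eq_zero,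
        smul_eq_mul, mul_one] at h1
      obtain ⟨s, rfl⟩ := Ideal.mem_span_singleton'.mp h1
      rw [mul_smul, hdy, smul_zero]
    · rintro ⟨q, m'⟩
      obtain ⟨m0, rfl⟩ := Submodule.mkQ_surjective _ m'
      refine ⟨m0 + ψ (q - φ m0), Prod.ext ?_ ?_⟩
      · show φ (m0 + ψ (q - φ m0)) = q
        rw [map_add, hφψ]; abel
      · show (Submodule.span R {y}).mkQ (m0 + ψ (q - φ m0)) = (Submodule.span R {y}).mkQ m0
        rw [map_add]
        have : (Submodule.span R {y}).mkQ (ψ (q - φ m0)) = 0 := by
          rw [Submodule.mkQ_apply, Submodule.Quotient.mk_eq_zero]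
          exact hψmem _
        rw [this, add_zero]

/-- Assembling the product decomposition. -/
theorem nonempty_cons_equiv {n : ℕ} (d : R) (f' : Fin n → R) :
    Nonempty (((R ⧸ Ideal.span {d}) × (∀ k : Fin n, R ⧸ Ideal.span {f' k})) ≃ₗ[R]
      (∀ j : Fin (n+1), R ⧸ Ideal.span {(Fin.cons d f' : Fin (n+1) → R) j})) :=
  ⟨Fin.consLinearEquiv R (fun j : Fin (n+1) => R ⧸ Ideal.span {(Fin.cons d f' : Fin (n+1) → R) j})⟩

theorem decomp_aux (h : ∀ a b : R, a ∣ b ∨ b ∣ a) :
    ∀ (n : ℕ) (M : Type u) [AddCommGroup M] [Module R M] [Module.FinitePresentation R M]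
      (g : (Fin n → R) →ₗ[R] M), Function.Surjective g →
      ∃ f : Fin n → R, Nonempty (M ≃ₗ[R] ((i : Fin n) → R ⧸ Ideal.span {f i})) := by
  intro n
  induction n with
  | zero =>
    intro M _ _ _ g hg
    refine ⟨fun _ => 0, ⟨?_⟩⟩
    haveI : Subsingleton M := hg.subsingleton
    exact LinearEquiv.ofSubsingleton _ _
  | succ n ih =>
    intro M _ _ _ g hg
    have hK : (LinearMap.ker g).FG := Module.FinitePresentation.fg_ker g hg
    obtain ⟨v, hv, i, hdiv⟩ := exists_min_coord h _ hK
    obtain ⟨y, g', hg', ⟨e⟩⟩ := exists_split M g hg v hv i hdiv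
    haveI : Module.FinitePresentation R (M ⧸ Submodule.span R {y}) :=
      Module.finitePresentation_of_surjective (Submodule.mkQ _) (Submodule.mkQ_surjective _)
        (by rw [Submodule.ker_mkQ]; exact Submodule.fg_span_singleton y)
    obtain ⟨f', ⟨e'⟩⟩ := ih (M ⧸ Submodule.span R {y}) g' hg'
    obtain ⟨e''⟩ := nonempty_cons_equiv (v i) f'
    exact ⟨Fin.cons (v i) f', ⟨(e.trans (LinearEquiv.prodCongr (LinearEquiv.refl R _) e')).trans e''⟩⟩

/-- Over a ring with total divisibility, every finitely presented module is a finite direct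
sum of cyclic modules `R ⧸ (f)`. -/
theorem decomp (h : ∀ a b : R, a ∣ b ∨ b ∣ a)
    (M : Type u) [AddCommGroup M] [Module R M] [Module.FinitePresentation R M] :
    ∃ (n : ℕ) (f : Fin n → R), Nonempty (M ≃ₗ[R] ((i : Fin n) → R ⧸ Ideal.span {f i})) := by
  obtain ⟨n, g, hg⟩ := Module.Finite.exists_fin' R M
  obtain ⟨f, hf⟩ := decomp_aux h n M g hg
  exact ⟨n, f, hf⟩

end Groth.Agent.Lib.Helper2.Chain
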