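import Mathlib
import Groth.Agent.Lib.Helper2.Chain.Decomp

/-!
# Finitely presented modules over locally chain rings

If every localization of `R` at a maximal ideal has total divisibility, then every finitely
presented `R`-module is a direct summand of a finite direct sum of cyclic modules `R ⧸ (f)`.
-/

set_option autoImplicit false
universe u

namespace Groth.Agent.Lib.Helper2.Chain

variable (R : Type u) [CommRing R] (M : Type u) [AddCommGroup M] [Module R M]

/-- The set of `g : R` such that `g • id_M` factors through a finite direct sum of cyclic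
modules. -/
def FactorSet : Set R :=
  {g | ∃ (ι : Type) (_ : Fintype ι) (f : ι → R)
      (α : M →ₗ[R] ((i : ι) → R ⧸ Ideal.span {f i}))
      (β : ((i : ι) → R ⧸ Ideal.span {f i}) →ₗ[R] M), β ∘ₗ α = g • LinearMap.id}

theorem zero_mem_factorSet : (0 : R) ∈ FactorSet R M :=
  ⟨PEmpty, inferInstance, fun _ => 0, 0, 0, by simp⟩

variable {R M}

theorem smul_mem_factorSet (r : R) {g : R} (hg : g ∈ FactorSet R M) : r * g ∈ FactorSet R M := by
  obtain ⟨ι, _, f, α, β, h⟩ := hg
  refine ⟨ι, inferInstance, f, α, r • β, ?_⟩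
  rw [LinearMap.smul_comp, h, smul_smul]

theorem add_mem_factorSet {g₁ g₂ : R} (h₁ : g₁ ∈ FactorSet R M) (h₂ : g₂ ∈ FactorSet R M) :
    g₁ + g₂ ∈ FactorSet R M := by
  obtain ⟨ι₁, _, f₁, α₁, β₁, h₁⟩ := h₁
  obtain ⟨ι₂, _, f₂, α₂, β₂, h₂⟩ := h₂
  let E : ((i : ι₁ ⊕ ι₂) → R ⧸ Ideal.span {Sum.elim f₁ f₂ i}) ≃ₗ[R]
      (((i : ι₁) → R ⧸ Ideal.span {f₁ i}) × ((i : ι₂) → R ⧸ Ideal.span {f₂ i})) :=
    LinearEquiv.sumPiEquivProdPi R ι₁ ι₂ (fun i => R ⧸ Ideal.span {Sum.elim f₁ f₂ i})
  refine ⟨ι₁ ⊕ ι₂, inferInstance, Sum.elim f₁ f₂, E.symm.toLinearMap ∘ₗ (α₁.prod α₂),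
    (β₁.coprod β₂) ∘ₗ E.toLinearMap, ?_⟩
  ext x
  simp only [LinearMap.comp_apply, LinearEquiv.coe_coe, LinearEquiv.apply_symm_apply,
    LinearMap.prod_apply, Pi.prod, LinearMap.coprod_apply, LinearMap.smul_apply,
    LinearMap.id_apply, add_smul, LinearMap.add_apply]
  have e₁ := LinearMap.congr_fun h₁ x
  have e₂ := LinearMap.congr_fun h₂ x
  simp only [LinearMap.comp_apply, LinearMap.smul_apply, LinearMap.id_apply] at e₁ e₂
  show β₁ (α₁ x) + β₂ (α₂ x) = _
  rw [e₁, e₂]

/-- `FactorSet` as an ideal. -/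
def factorIdeal (R : Type u) [CommRing R] (M : Type u) [AddCommGroup M] [Module R M] :
    Ideal R where
  carrier := FactorSet R M
  zero_mem' := zero_mem_factorSet R M
  add_mem' := add_mem_factorSet
  smul_mem' := fun r _ hg => smul_mem_factorSet r hg

theorem mem_factorIdeal {g : R} : g ∈ factorIdeal R M ↔ g ∈ FactorSet R M := Iff.rfl

/-- If `1 ∈ FactorSet R M`, then `M` is a direct summand of a direct sum of cyclic modules. -/
theorem summand_of_one_mem (h : (1 : R) ∈ FactorSet R M) :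
    ∃ (n : ℕ) (f : Fin n → R) (N : Type u) (_ : AddCommGroup N) (_ : Module R N),
      Nonempty ((M × N) ≃ₗ[R] ((i : Fin n) → R ⧸ Ideal.span {f i})) := by
  obtain ⟨ι, _, f, α, β, h⟩ := h
  have hβα : ∀ x, β (α x) = x := fun x => by
    have := LinearMap.congr_fun h x
    simpa using this
  let e := Fintype.equivFin ι
  refine ⟨Fintype.card ι, fun j => f (e.symm j), LinearMap.ker β, inferInstance, inferInstance, ⟨?_⟩⟩
  suffices E1 : (M × LinearMap.ker β) ≃ₗ[R] ((i : ι) → R ⧸ Ideal.span {f i}) from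
    E1.trans (LinearEquiv.piCongrLeft' R (fun i => R ⧸ Ideal.span {f i}) e)
  refine LinearEquiv.ofBijective (α.coprod (LinearMap.ker β).subtype) ⟨?_, ?_⟩
  · rw [← LinearMap.ker_eq_bot, LinearMap.ker_eq_bot']
    rintro ⟨x, k⟩ hxk
    rw [LinearMap.coprod_apply, Submodule.subtype_apply] at hxk
    have h1 := congrArg β hxk
    rw [map_add, hβα, k.2, add_zero, map_zero] at h1
    subst h1
    rw [map_zero, zero_add] at hxk
    exact Prod.ext rfl (Subtype.ext hxk)
  · intro y
    refine ⟨(β y, ⟨y - α (β y), ?_⟩), ?_⟩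
    · rw [LinearMap.mem_ker, map_sub, hβα, sub_self]
    · rw [LinearMap.coprod_apply, Submodule.subtype_apply]
      exact add_sub_cancel _ _

theorem exists_mem_factorSet_notMem (m : Ideal R) [m.IsMaximal]
    (hm : ∀ a b : Localization.AtPrime m, a ∣ b ∨ b ∣ a) [Module.FinitePresentation R M] :
    ∃ g ∈ FactorSet R M, g ∉ m := by
  classical
  let S := m.primeCompl
  let Rm := Localization.AtPrime m
  let Mm := LocalizedModule S M
  obtain ⟨n, f', ⟨e⟩⟩ := decomp (R := Rm) hm Mm
  have hsurj : ∀ i, ∃ (a : R) (s : S), f' i * algebraMap R Rm s = algebraMap R Rm a := fun i => by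
    obtain ⟨⟨a, s⟩, h⟩ := IsLocalization.surj S (f' i)
    exact ⟨a, s, h⟩
  choose f s hfs using hsurj
  have hJ : ∀ i, (Ideal.span {f' i} : Submodule Rm Rm) =
      (Submodule.span R {f i}).localized' Rm S (Algebra.linearMap R Rm) := by
    intro i
    rw [Submodule.localized'_span, Set.image_singleton, Algebra.linearMap_apply, ← hfs i]
    exact (Ideal.span_singleton_mul_right_unit (IsLocalization.map_units Rm (s i)) (f' i)).symm
  let N := (i : Fin n) → R ⧸ Ideal.span {f i}
  let N' := (i : Fin n) → Rm ⧸ (Submodule.span R {f i}).localized' Rm S (Algebra.linearMap R Rm)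
  let ιN : N →ₗ[R] N' := LinearMap.pi (fun i =>
    (Submodule.toLocalizedQuotient' Rm S (Algebra.linearMap R Rm) (Submodule.span R {f i})) ∘ₗ
      LinearMap.proj i)
  haveI : IsLocalizedModule S ιN := IsLocalizedModule.pi S _
  let θ₁ : ((i : Fin n) → Rm ⧸ Ideal.span {f' i}) ≃ₗ[Rm] N' :=
    LinearEquiv.piCongrRight (fun i => Submodule.quotEquivOfEq _ _ (hJ i))
  let θ : Mm ≃ₗ[R] N' := (e.trans θ₁).restrictScalars R
  let ιM : M →ₗ[R] Mm := LocalizedModule.mkLinearMap S M
  obtain ⟨α, s₁, hα⟩ := Module.FinitePresentation.exists_lift_of_isLocalizedModule S ιN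
    (θ.toLinearMap ∘ₗ ιM)
  haveI : ∀ i, Module.FinitePresentation R (R ⧸ Ideal.span {f i}) := fun i =>
    Module.finitePresentation_of_surjective (Submodule.mkQ _) (Submodule.mkQ_surjective _)
      (by rw [Submodule.ker_mkQ]; exact Submodule.fg_span_singleton _)
  obtain ⟨β, s₂, hβ⟩ := Module.FinitePresentation.exists_lift_of_isLocalizedModule S ιM
    (θ.symm.toLinearMap ∘ₗ ιN)
  have H : ιM ∘ₗ (β ∘ₗ α) = ιM ∘ₗ (((s₂ * s₁ : S) : R) • LinearMap.id) := by
    ext x
    have h1 := LinearMap.congr_fun hα x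
    have h2 := LinearMap.congr_fun hβ (α x)
    simp only [LinearMap.comp_apply, LinearMap.smul_apply, LinearEquiv.coe_coe] at h1 h2
    simp only [LinearMap.comp_apply, LinearMap.smul_apply, LinearMap.id_apply]
    rw [h2, h1, Submonoid.smul_def, Submonoid.smul_def, map_smul, θ.symm_apply_apply, smul_smul,
      map_smul, Submonoid.coe_mul]
  obtain ⟨s₃, hs₃⟩ := Module.Finite.exists_smul_of_comp_eq_of_isLocalizedModule S ιM _ _ H
  refine ⟨((s₃ * (s₂ * s₁) : S) : R), ⟨Fin n, inferInstance, f, α, (s₃ : R) • β, ?_⟩,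
    (s₃ * (s₂ * s₁)).2⟩
  rw [LinearMap.smul_comp, Submonoid.coe_mul, mul_smul]
  exact hs₃


/-- If every localization of `R` at a maximal ideal has total divisibility, every finitely
presented module is a direct summand of a finite direct sum of cyclic modules. -/
theorem summand_decomp
    (h : ∀ (m : Ideal R) [m.IsMaximal], ∀ a b : Localization.AtPrime m, a ∣ b ∨ b ∣ a)
    [Module.FinitePresentation R M] :
    ∃ (n : ℕ) (f : Fin n → R) (N : Type u) (_ : AddCommGroup N) (_ : Module R N),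
      Nonempty ((M × N) ≃ₗ[R] ((i : Fin n) → R ⧸ Ideal.span {f i})) := by
  apply summand_of_one_mem
  rw [← mem_factorIdeal, ← Ideal.eq_top_iff_one]
  by_contra hne
  obtain ⟨m, hm, hle⟩ := Ideal.exists_le_maximal _ hne
  obtain ⟨g, hg, hgm⟩ := exists_mem_factorSet_notMem (M := M) m (h m)
  exact hgm (hle hg)

end Groth.Agent.Lib.Helper2.Chain
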