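import Mathlib
import Groth.Agent.Lib.Helper2.Chain.Summand

/-!
# Finitely presented modules over Bézout domains
-/

set_option autoImplicit false
universe u v w

namespace Groth.Agent.Lib.Helper2.Chain

section Split

variable {R : Type u} [CommRing R] {P : Type v} [AddCommGroup P] [Module R P]
  {F : Type w} [AddCommGroup F] [Module R F]

/-- A surjection onto a projective module splits: `P ≃ F × ker q`. -/
theorem nonempty_equiv_prod_ker [Module.Projective R F] (q : P →ₗ[R] F)
    (hq : Function.Surjective q) : Nonempty (P ≃ₗ[R] F × LinearMap.ker q) := by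
  obtain ⟨s, hs⟩ := Module.projective_lifting_property q LinearMap.id hq
  have hqs : ∀ y, q (s y) = y := fun y => LinearMap.congr_fun hs y
  refine ⟨LinearEquiv.symm (LinearEquiv.ofBijective (s.coprod (LinearMap.ker q).subtype) ⟨?_, ?_⟩)⟩
  · rw [← LinearMap.ker_eq_bot, LinearMap.ker_eq_bot']
    rintro ⟨x, k⟩ hxk
    rw [LinearMap.coprod_apply, Submodule.subtype_apply] at hxk
    have h1 := congrArg q hxk
    rw [map_add, hqs, k.2, add_zero, map_zero] at h1
    subst h1
    rw [map_zero, zero_add] at hxk
    exact Prod.ext rfl (Subtype.ext hxk)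
  · intro y
    refine ⟨(q y, ⟨y - s (q y), ?_⟩), ?_⟩
    · rw [LinearMap.mem_ker, map_sub, hqs, sub_self]
    · rw [LinearMap.coprod_apply, Submodule.subtype_apply]
      exact add_sub_cancel _ _

end Split

section Free

variable {R : Type u} [CommRing R] [IsDomain R] [IsBezout R]

/-- Principal ideals in a domain are free. -/
theorem free_of_isPrincipal (I : Ideal R) (hI : I.IsPrincipal) : Module.Free R I := by
  obtain ⟨a, rfl⟩ := hI
  by_cases ha : a = 0
  · subst ha
    haveI : Subsingleton (Submodule.span R {(0 : R)}) := by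
      rw [Submodule.span_zero_singleton]; infer_instance
    infer_instance
  · exact Module.Free.of_equiv (LinearEquiv.toSpanNonzeroSingleton R R a ha)

/-- Finitely generated submodules of `R^n` over a Bézout domain are free. -/
theorem free_of_fg_le_pi : ∀ (n : ℕ) (P : Submodule R (Fin n → R)), P.FG → Module.Free R P := by
  intro n
  induction n with
  | zero =>
    intro P _
    infer_instance
  | succ n ih =>
    intro P hP
    haveI : Module.Finite R P := Module.Finite.iff_fg.mpr hP
    let π : (Fin (n+1) → R) →ₗ[R] R := LinearMap.proj 0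
    let I : Ideal R := P.map π
    have hI : I.FG := hP.map π
    haveI : Module.Free R I := free_of_isPrincipal I (IsBezout.isPrincipal_of_FG I hI)
    let q : P →ₗ[R] I := π.submoduleMap P
    have hq : Function.Surjective q := π.submoduleMap_surjective P
    obtain ⟨E⟩ := nonempty_equiv_prod_ker q hq
    haveI : Module.Finite R (LinearMap.ker q) :=
      Module.Finite.of_surjective ((LinearMap.snd R I (LinearMap.ker q)) ∘ₗ E.toLinearMap)
        ((LinearMap.snd_surjective (R := R) (M := I) (M₂ := LinearMap.ker q)).comp E.surjective)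
    let T : LinearMap.ker q →ₗ[R] (Fin n → R) :=
      (LinearMap.funLeft R R Fin.succ) ∘ₗ P.subtype ∘ₗ (LinearMap.ker q).subtype
    have hT : Function.Injective T := by
      intro y z hyz
      have h0 : (y.1.1 : Fin (n+1) → R) 0 = (z.1.1 : Fin (n+1) → R) 0 := by
        have hy := y.2
        have hz := z.2
        rw [LinearMap.mem_ker] at hy hz
        exact congrArg Subtype.val (hy.trans hz.symm)
      have hs : ∀ j : Fin n, (y.1.1 : Fin (n+1) → R) j.succ = (z.1.1 : Fin (n+1) → R) j.succ :=
        fun j => congrFun hyz j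
      apply Subtype.ext
      apply Subtype.ext
      ext j
      refine Fin.cases ?_ ?_ j
      · exact h0
      · exact hs
    have hfg : (LinearMap.range T).FG := by
      rw [LinearMap.range_eq_map]
      exact (Module.Finite.fg_top).map T
    have : Module.Free R (LinearMap.range T) := ih _ hfg
    have : Module.Free R (LinearMap.ker q) :=
      Module.Free.of_equiv (LinearEquiv.ofInjective T hT).symm
    exact Module.Free.of_equiv E.symm

end Free

section Free2
open Module Submodule Set

variable {R : Type u} [CommRing R] [IsDomain R] [IsBezout R]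

/-- A finitely generated submodule of a module with a finite basis is free. -/
theorem free_of_fg_of_basis {N : Type v} [AddCommGroup N] [Module R N] {ι : Type w} [Finite ι]
    (b : Module.Basis ι R N) (P : Submodule R N) (hP : P.FG) : Module.Free R P := by
  cases nonempty_fintype ι
  let e : N ≃ₗ[R] (Fin (Fintype.card ι) → R) :=
    b.equivFun.trans (LinearEquiv.funCongrLeft R R (Fintype.equivFin ι).symm)
  have : Module.Free R (P.map e.toLinearMap) := free_of_fg_le_pi _ _ (hP.map _)
  exact Module.Free.of_equiv (e.submoduleMap P).symm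

/-- Finitely generated torsion-free modules over a Bézout domain are free. -/
theorem free_of_finite_torsionFree (M : Type v) [AddCommGroup M] [Module R M] [Module.Finite R M]
    [Module.IsTorsionFree R M] : Module.Free R M := by
  classical
  obtain ⟨n, s, hs⟩ := Module.Finite.exists_fin (R := R) (M := M)
  have := exists_maximal_linearIndepOn R s
  let I : Set (Fin n) := this.choose
  obtain
    ⟨indepI : LinearIndependent R (s ∘ (fun x => x) : I → M), hI :
      ∀ i ∉ I, ∃ a : R, a ≠ 0 ∧ a • s i ∈ span R (s '' I)⟩ :=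
    this.choose_spec
  let N := span R (range <| (s ∘ (fun x => x) : I → M))
  let sI_basis : Basis I R N := Basis.span indepI
  have exists_a : ∀ i : Fin n, ∃ a : R, a ≠ 0 ∧ a • s i ∈ N := by
    intro i
    by_cases hi : i ∈ I
    · use 1, zero_ne_one.symm
      rw [one_smul]
      exact subset_span (mem_range_self (⟨i, hi⟩ : I))
    · simpa [image_eq_range s I] using! hI i hi
  choose a ha ha' using exists_a
  let A := ∏ i, a i
  have hA : A ≠ 0 := by
    rw [Finset.prod_ne_zero_iff]
    simpa using! ha
  let φ : M →ₗ[R] M := LinearMap.lsmul R M A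
  have hker : LinearMap.ker φ = ⊥ := LinearMap.ker_lsmul hA
  let ψ := LinearEquiv.ofInjective φ (LinearMap.ker_eq_bot.mp hker)
  have hle : LinearMap.range φ ≤ N := by
    suffices ∀ i, φ (s i) ∈ N by
      rw [LinearMap.range_eq_map, ← hs, map_span_le]
      rintro _ ⟨i, rfl⟩
      apply this
    intro i
    calc
      (∏ j ∈ {i}ᶜ, a j) • a i • s i ∈ N := N.smul_mem _ (ha' i)
      _ = (∏ j, a j) • s i := by rw [Fintype.prod_eq_prod_compl_mul i, mul_smul]
  have hfg : ((LinearMap.range φ).comap N.subtype).FG := by
    have h1 : (LinearMap.range φ).FG := by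
      rw [LinearMap.range_eq_map]; exact (Module.Finite.fg_top).map φ
    have : Module.Finite R (LinearMap.range φ) := Module.Finite.iff_fg.mpr h1
    have e := (Submodule.comapSubtypeEquivOfLe hle)
    have : Module.Finite R ((LinearMap.range φ).comap N.subtype) := Module.Finite.equiv e.symm
    exact Module.Finite.iff_fg.mp this
  have h2 : Module.Free R ((LinearMap.range φ).comap N.subtype) :=
    free_of_fg_of_basis sI_basis _ hfg
  have h3 : Module.Free R (LinearMap.range φ) :=
    Module.Free.of_equiv (Submodule.comapSubtypeEquivOfLe hle)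
  exact Module.Free.of_equiv ψ.symm

end Free2

/-- Localizations of Bézout rings are Bézout. -/
theorem isBezout_of_isLocalization {R : Type u} [CommRing R] [IsBezout R] (S : Submonoid R)
    (A : Type v) [CommRing A] [Algebra R A] [IsLocalization S A] : IsBezout A := by
  rw [IsBezout.iff_span_pair_isPrincipal]
  intro x y
  obtain ⟨⟨a, s⟩, hs⟩ := IsLocalization.surj S x
  obtain ⟨⟨b, t⟩, ht⟩ := IsLocalization.surj S y
  have hx : Ideal.span {x} = Ideal.span {algebraMap R A a} := by
    rw [← hs]; exact (Ideal.span_singleton_mul_right_unit (IsLocalization.map_units A s) x).symm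
  have hy : Ideal.span {y} = Ideal.span {algebraMap R A b} := by
    rw [← ht]; exact (Ideal.span_singleton_mul_right_unit (IsLocalization.map_units A t) y).symm
  obtain ⟨g, hg⟩ := (IsBezout.span_pair_isPrincipal a b).principal
  refine ⟨⟨algebraMap R A g, ?_⟩⟩
  rw [Ideal.submodule_span_eq] at hg ⊢
  rw [Ideal.span_insert, hx, hy, ← Ideal.span_insert, ← Set.image_pair, ← Ideal.map_span, hg,
    Ideal.map_span, Set.image_singleton]

theorem dvd_total_atPrime {R : Type u} [CommRing R] [IsDomain R] [IsBezout R] (p : Ideal R)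
    [p.IsPrime] (a b : Localization.AtPrime p) : a ∣ b ∨ b ∣ a := by
  haveI : IsBezout (Localization.AtPrime p) := isBezout_of_isLocalization p.primeCompl _
  exact ValuationRing.dvd_total a b

section Main

variable {R : Type u} [CommRing R] [IsDomain R] [IsBezout R]
  (M : Type u) [AddCommGroup M] [Module R M] [Module.FinitePresentation R M]

theorem bezout_free_prod_torsion :
    ∃ r : ℕ, Nonempty (M ≃ₗ[R] ((Fin r → R) × Submodule.torsion R M)) := by
  let Q := M ⧸ Submodule.torsion R M
  haveI : Module.Free R Q := free_of_finite_torsionFree Q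
  obtain ⟨E⟩ := nonempty_equiv_prod_ker (Submodule.torsion R M).mkQ (Submodule.mkQ_surjective _)
  refine ⟨Module.finrank R Q, ⟨E.trans (LinearEquiv.prodCongr (Module.finBasis R Q).equivFun
    (LinearEquiv.ofEq _ _ (Submodule.ker_mkQ _)))⟩⟩

theorem bezout_torsion_retract :
    ∃ (n : ℕ) (f : Fin n → R), (∀ j, f j ≠ 0) ∧
        ∃ (i : Submodule.torsion R M →ₗ[R] ((j : Fin n) → R ⧸ Ideal.span {f j}))
          (p : ((j : Fin n) → R ⧸ Ideal.span {f j}) →ₗ[R] Submodule.torsion R M),
          p ∘ₗ i = LinearMap.id := by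
  classical
  obtain ⟨n, f, N, _, _, ⟨E⟩⟩ := summand_decomp (R := R) (M := M)
    (fun m _ a b => dvd_total_atPrime m a b)
  let ι' := {j : Fin n // f j ≠ 0}
  let e : ι' ≃ Fin (Fintype.card ι') := Fintype.equivFin ι'
  let i0 : Submodule.torsion R M →ₗ[R] ((j : Fin n) → R ⧸ Ideal.span {f j}) :=
    E.toLinearMap ∘ₗ (LinearMap.inl R M N) ∘ₗ (Submodule.torsion R M).subtype
  let p0 : ((j : Fin n) → R ⧸ Ideal.span {f j}) →ₗ[R] M :=
    (LinearMap.fst R M N) ∘ₗ E.symm.toLinearMap
  have hp0i0 : ∀ x, p0 (i0 x) = x.1 := fun x => by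
    simp [p0, i0]
  let res : ((j : Fin n) → R ⧸ Ideal.span {f j}) →ₗ[R] ((j : ι') → R ⧸ Ideal.span {f j.1}) :=
    LinearMap.pi (fun j => LinearMap.proj j.1)
  let ext0 : ((j : ι') → R ⧸ Ideal.span {f j.1}) →ₗ[R] ((j : Fin n) → R ⧸ Ideal.span {f j}) :=
    LinearMap.pi (fun j => if h : f j ≠ 0 then LinearMap.proj (⟨j, h⟩ : ι') else 0)
  have K1 : ∀ x, ext0 (res (i0 x)) = i0 x := by
    intro x
    ext j
    by_cases h : f j ≠ 0
    · simp [ext0, res, h]
    · have h0 : f j = 0 := not_not.mp h
      have : (i0 x) j = 0 := by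
        obtain ⟨a, ha⟩ := (Submodule.mem_torsion_iff _).mp x.2
        have ha' : a • x = 0 := Subtype.ext ha
        have h1 : (a : R) • (i0 x) j = 0 := by
          have : (a : R) • i0 x = 0 := by
            rw [← map_smul]
            have : (a : R) • x = 0 := ha'
            rw [this, map_zero]
          exact congrFun this j
        obtain ⟨b, hb⟩ := Submodule.Quotient.mk_surjective _ ((i0 x) j)
        rw [← hb, ← Submodule.Quotient.mk_smul, Submodule.Quotient.mk_eq_zero, h0,
          Ideal.span_singleton_zero, Submodule.mem_bot, smul_eq_mul] at h1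
        have hb0 : b = 0 := by
          rcases mul_eq_zero.mp h1 with h | h
          · exact absurd h (nonZeroDivisors.coe_ne_zero a)
          · exact h
        rw [← hb, hb0, Submodule.Quotient.mk_zero]
      simp [ext0, h0, this]
  have K2 : ∀ y, p0 (ext0 y) ∈ Submodule.torsion R M := by
    intro y
    let A : R := ∏ j : ι', f j.1
    have hA : A ≠ 0 := Finset.prod_ne_zero_iff.mpr (fun j _ => j.2)
    have hAy : A • y = 0 := by
      ext j
      obtain ⟨b, hb⟩ := Submodule.Quotient.mk_surjective _ (y j)
      rw [Pi.smul_apply, ← hb, ← Submodule.Quotient.mk_smul, Pi.zero_apply,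
        Submodule.Quotient.mk_eq_zero, smul_eq_mul]
      have : f j.1 ∣ A := Finset.dvd_prod_of_mem _ (Finset.mem_univ j)
      exact Ideal.mem_span_singleton.mpr (this.mul_right b)
    rw [Submodule.mem_torsion_iff]
    refine ⟨⟨A, mem_nonZeroDivisors_of_ne_zero hA⟩, ?_⟩
    show A • p0 (ext0 y) = 0
    rw [← map_smul, ← map_smul, hAy, map_zero, map_zero]
  let p1 : ((j : ι') → R ⧸ Ideal.span {f j.1}) →ₗ[R] Submodule.torsion R M :=
    (p0 ∘ₗ ext0).codRestrict _ K2
  let F := LinearEquiv.piCongrLeft' R (fun j : ι' => R ⧸ Ideal.span {f j.1}) e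
  refine ⟨Fintype.card ι', fun k => f (e.symm k).1, fun k => (e.symm k).2,
    F.toLinearMap ∘ₗ res ∘ₗ i0, p1 ∘ₗ F.symm.toLinearMap, ?_⟩
  ext x
  simp only [LinearMap.comp_apply, LinearEquiv.coe_coe, LinearEquiv.symm_apply_apply,
    LinearMap.id_apply]
  show p0 (ext0 (res (i0 x))) = x.1
  rw [K1, hp0i0]

end Main

end Groth.Agent.Lib.Helper2.Chain
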